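import Groth.Agent.Lib.AlgClosedExt25.Ff
import Groth.Agent.Lib.AlgClosedExt25.General
import Groth.Agent.Lib.AVCov25.Connected

/-!
# Dominating covers and components over connected locally Noetherian schemes
-/

open CategoryTheory Limits AlgebraicGeometry TopologicalSpace

set_option autoImplicit false
set_option linter.style.haveILetI false
set_option backward.isDefEq.respectTransparency false

namespace Groth.Agent.Family25

universe u

variable {X : Scheme.{u}} {Ω : Type u} [Field Ω] [IsAlgClosed Ω]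

/-- Components of covers of locally Noetherian schemes. -/
theorem isClopen_component (W : FEt.Cat X) [IsLocallyNoetherian X] (x : W.left) :
    IsClopen (connectedComponent x) := by
  let g : W.left ⟶ X := W.hom
  haveI : IsFinite g := W.prop.1
  haveI : IsLocallyNoetherian W.left := LocallyOfFiniteType.isLocallyNoetherian g
  haveI := SectionCompOpen4.locallyConnectedSpace W.left
  exact ⟨isClosed_connectedComponent, isOpen_connectedComponent⟩

/-- The component through a point, as a connected cover. -/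
theorem exists_component (ξ : Spec (CommRingCat.of Ω) ⟶ X) [IsLocallyNoetherian X] (W : FEt.Cat X)
    (q : FEt.fiberObj ξ W) :
    ∃ (C : FEt.Cat X) (_ : ConnectedSpace C.left) (ι : C ⟶ W) (q' : FEt.fiberObj ξ C),
      (FEt.fiber ξ).map ι q' = q ∧ Set.range ι.left = connectedComponent (q.1 (IsLocalRing.closedPoint Ω)) := by
  let D : W.left.Opens := ⟨connectedComponent (q.1 (IsLocalRing.closedPoint Ω)), (isClopen_component W _).2⟩
  have hD : IsClosed (D : Set W.left) := (isClopen_component W _).1
  haveI hc : ConnectedSpace (FEtEq25.openCover' W D hD).left :=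
    isConnected_iff_connectedSpace.1 (show _root_.IsConnected (D : Set W.left) from isConnected_connectedComponent)
  obtain ⟨q', hq'⟩ := Pi1Gen25.exists_lift_openCover ξ W D hD q mem_connectedComponent
  exact ⟨_, hc, FEtEq25.openCoverι W D hD, q', hq', D.range_ι⟩

/-- A finite set of points of fibres is dominated by one point of a connected cover. -/
theorem exists_dominating (ξ : Spec (CommRingCat.of Ω) ⟶ X) [ConnectedSpace X] [IsLocallyNoetherian X]
    (I : List (Σ Z : FEt.Cat X, FEt.fiberObj ξ Z)) :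
    ∃ (W : FEt.Cat X) (_ : ConnectedSpace W.left) (p : FEt.fiberObj ξ W),
      ∀ z ∈ I, ∃ φ : W ⟶ z.1, (FEt.fiber ξ).map φ p = z.2 := by
  induction I with
  | nil =>
    exact ⟨MorphismProperty.Over.mk ⊤ (𝟙 X) ⟨inferInstance, inferInstance⟩, ‹ConnectedSpace X›,
      ⟨ξ, Category.comp_id ξ⟩, fun z hz => absurd hz List.not_mem_nil⟩
  | cons a l ih =>
    obtain ⟨W, hW, p, hp⟩ := ih
    obtain ⟨Z, s⟩ := a
    haveI : IsFinite (pullback.fst W.hom Z.hom ≫ W.hom) := inferInstance
    haveI : Etale (pullback.fst W.hom Z.hom ≫ W.hom) := inferInstance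
    let V : FEt.Cat X := MorphismProperty.Over.mk ⊤ (pullback.fst W.hom Z.hom ≫ W.hom) ⟨inferInstance, inferInstance⟩
    let q : FEt.fiberObj ξ V := ⟨pullback.lift p.1 s.1 (p.2.trans s.2.symm), by
      show pullback.lift p.1 s.1 _ ≫ pullback.fst W.hom Z.hom ≫ W.hom = ξ
      rw [pullback.lift_fst_assoc]
      exact p.2⟩
    obtain ⟨C, hC, ι, q', hq', -⟩ := exists_component ξ V q
    let π₁ : V ⟶ W := MorphismProperty.Over.homMk (pullback.fst W.hom Z.hom) rfl
    let π₂ : V ⟶ Z := MorphismProperty.Over.homMk (pullback.snd W.hom Z.hom) pullback.condition.symm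
    have h1 : (FEt.fiber ξ).map π₁ q = p := Subtype.ext (pullback.lift_fst _ _ _)
    have h2 : (FEt.fiber ξ).map π₂ q = s := Subtype.ext (pullback.lift_snd _ _ _)
    refine ⟨C, hC, q', fun z hz => ?_⟩
    rcases List.mem_cons.1 hz with rfl | hz
    · refine ⟨ι ≫ π₂, ?_⟩
      rw [FunctorToTypes.map_comp_apply, hq', h2]
    · obtain ⟨φ, hφ⟩ := hp z hz
      refine ⟨ι ≫ π₁ ≫ φ, ?_⟩
      rw [FunctorToTypes.map_comp_apply, FunctorToTypes.map_comp_apply, hq', h1, hφ]

/-- If a connected cover dominates all points of a cover at one geometric point, every geometric point of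
their fibre product lies on a graph. -/
theorem exists_hom_through [IsLocallyNoetherian X] (ξ : Spec (CommRingCat.of Ω) ⟶ X) (W T : FEt.Cat X)
    [ConnectedSpace W.left] (p : FEt.fiberObj ξ W)
    (hp : ∀ s : FEt.fiberObj ξ T, ∃ φ : W ⟶ T, (FEt.fiber ξ).map φ p = s)
    {K : Type u} [Field K] [IsAlgClosed K] (e : Spec (CommRingCat.of K) ⟶ W.left)
    (d : Spec (CommRingCat.of K) ⟶ T.left) (hed : d ≫ T.hom = e ≫ W.hom) :
    ∃ h : W ⟶ T, e ≫ h.left = d := by
  let w : W.left ⟶ X := W.hom
  let t : T.left ⟶ X := T.hom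
  haveI : IsFinite w := W.prop.1
  haveI : Etale w := W.prop.2
  haveI : IsFinite t := T.prop.1
  haveI : Etale t := T.prop.2
  haveI : IsLocallyNoetherian W.left := LocallyOfFiniteType.isLocallyNoetherian w
  let z : Spec (CommRingCat.of K) ⟶ pullback t w := pullback.lift d e hed
  haveI : IsFinite (pullback.snd t w) := MorphismProperty.pullback_snd _ _ ‹IsFinite t›
  haveI : Etale (pullback.snd t w) := MorphismProperty.pullback_snd _ _ ‹Etale t›
  let P : FEt.Cat W.left := MorphismProperty.Over.mk ⊤ (pullback.snd t w) ⟨inferInstance, inferInstance⟩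
  let D : (pullback t w).Opens := ⟨connectedComponent (z (IsLocalRing.closedPoint K)), (isClopen_component P _).2⟩
  have hD : IsClosed (D : Set ↥(pullback t w)) := (isClopen_component P _).1
  haveI : ConnectedSpace ↥(D : Scheme.{u}) :=
    isConnected_iff_connectedSpace.1 (show _root_.IsConnected (D : Set ↥(pullback t w)) from isConnected_connectedComponent)
  haveI : IsClosedImmersion D.ι := IsClosedImmersion.of_isPreimmersion _ (by rw [Scheme.Opens.range_ι]; exact hD)
  let π : (D : Scheme.{u}) ⟶ W.left := D.ι ≫ pullback.snd t w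
  haveI : IsFinite π := inferInstance
  haveI : Etale π := inferInstance
  obtain ⟨a, -, ha⟩ := ((FEtEq25.isClopen_image π isClopen_univ).eq_univ
    (Set.univ_nonempty.image (π : ↥(D : Scheme.{u}) → W.left))).ge (Set.mem_univ (p.1 (IsLocalRing.closedPoint Ω)))
  obtain ⟨c, hc, -⟩ := FEtEq25.exists_fiber_point p.1 π a ha
  obtain ⟨h, hh⟩ := hp ⟨c ≫ D.ι ≫ pullback.fst t w, by
    show (c ≫ D.ι ≫ pullback.fst t w) ≫ t = ξ
    simp only [Category.assoc, pullback.condition]
    rw [← Category.assoc D.ι, ← Category.assoc c, show c ≫ π = p.1 from hc]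
    exact p.2⟩
  refine ⟨h, ?_⟩
  have hh' : p.1 ≫ h.left = c ≫ D.ι ≫ pullback.fst t w := congrArg Subtype.val hh
  have hhw : h.left ≫ t = w := MorphismProperty.Over.w h
  have key : D.ι ≫ pullback.fst t w = π ≫ h.left := by
    refine AVCov25.eq_of_agree t _ _ ?_ c ?_
    · simp only [π, Category.assoc, pullback.condition, hhw]
    · rw [← Category.assoc c π, show c ≫ π = p.1 from hc, hh']
  have hzr : Set.range z ⊆ Set.range D.ι := by
    rw [Scheme.Opens.range_ι]
    exact Pi1Gen25.range_subset z mem_connectedComponent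
  have hz := congrArg (IsOpenImmersion.lift D.ι z hzr ≫ ·) key
  simp only [π, Category.assoc, IsOpenImmersion.lift_fac_assoc, z, pullback.lift_fst, pullback.lift_snd_assoc] at hz
  exact hz.symm

/-- A cover of a connected scheme whose connected clopen parts are in the essential image is too. -/
theorem essImage_of_components {Y : Scheme.{u}} [ConnectedSpace Y] (F : FEt.Cat X ⥤ FEt.Cat Y)
    [PreservesFiniteColimits F] (ξ : Spec (CommRingCat.of Ω) ⟶ Y) (W : FEt.Cat Y)
    (h : ∀ (D : W.left.Opens) (hD : IsClosed (D : Set W.left)), ConnectedSpace ↥(D : Scheme.{u}) →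
      F.essImage (FEtEq25.openCover' W D hD)) : F.essImage W := by
  classical
  let w : W.left ⟶ Y := W.hom
  haveI : IsFinite w := W.prop.1
  haveI : Etale w := W.prop.2
  let y₀ := ξ (IsLocalRing.closedPoint Ω)
  have hfin : (w ⁻¹' {y₀}).Finite := w.finite_preimage_singleton _
  let μ : Set W.left → ℕ := fun S => (S ∩ w ⁻¹' {y₀}).ncard
  suffices ∀ (n : ℕ) (C : W.left.Opens) (hC : IsClosed (C : Set W.left)), μ C = n →
      F.essImage (FEtEq25.openCover' W C hC) by
    obtain ⟨V, ⟨e⟩⟩ := this _ ⊤ isClosed_univ rfl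
    exact ⟨V, ⟨e ≪≫ MorphismProperty.Over.isoMk W.left.topIso (by
      show W.left.topIso.hom ≫ W.hom = (⊤ : W.left.Opens).ι ≫ W.hom
      rw [Scheme.topIso_hom])⟩⟩
  intro n
  induction n using Nat.strong_induction_on with
  | _ n ih =>
    intro C hC hn
    let W' := FEtEq25.openCover' W C hC
    rcases isEmpty_or_nonempty W'.left with hempty | hne
    · exact AlgClosedExt25.essImage_of_isEmpty F W'
    by_cases hconn : PreconnectedSpace W'.left
    · exact h C hC { toPreconnectedSpace := hconn, toNonempty := hne }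
    rw [preconnectedSpace_iff_clopen] at hconn
    push_neg at hconn
    obtain ⟨S, hS, hS₁, hS₂⟩ := hconn
    let S₁ : W'.left.Opens := ⟨S, hS.2⟩
    let S₂ : W'.left.Opens := ⟨Sᶜ, hS.compl.2⟩
    let i : W'.left ⟶ W.left := C.ι
    haveI : IsClosedImmersion i := IsClosedImmersion.of_isPreimmersion _ (by
      change IsClosed (Set.range C.ι)
      rw [Scheme.Opens.range_ι]; exact hC)
    have key : ∀ (T : W'.left.Opens) (hT : IsClopen (T : Set W'.left)) (_ : (T : Set W'.left) ≠ Set.univ),
        F.essImage (FEtEq25.openCover' W' T hT.1) := by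
      intro T hT hne'
      let D : W.left.Opens := ⟨i '' T, i.isOpenEmbedding.isOpenMap _ hT.2⟩
      have hD : IsClosed (D : Set W.left) := i.isClosedEmbedding.isClosedMap _ hT.1
      have hC' : IsClopen (C : Set W.left) := ⟨hC, C.2⟩
      have hDC : IsClopen ((C : Set W.left) \ D) := IsClopen.diff hC' ⟨hD, D.2⟩
      have hlt : μ D < n := by
        rw [← hn]
        refine Set.ncard_lt_ncard ?_ (hfin.subset Set.inter_subset_right)
        refine ⟨Set.inter_subset_inter_left _ (by rintro _ ⟨x, -, rfl⟩; exact x.2), fun hsub => ?_⟩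
        obtain ⟨x, hx⟩ := (Set.ne_univ_iff_exists_notMem _).1 hne'
        have hne2 : ((C : Set W.left) \ D).Nonempty := ⟨i x, x.2, by
          rintro ⟨y, hy, hxy⟩
          exact hx (i.isClosedEmbedding.injective hxy ▸ hy)⟩
        obtain ⟨a, ha, haw⟩ := ((FEtEq25.isClopen_image w hDC).eq_univ (hne2.image w)).ge (Set.mem_univ y₀)
        exact ha.2 (hsub ⟨ha.1, haw⟩).1
      obtain ⟨V, ⟨e⟩⟩ := ih _ hlt D hD rfl
      refine ⟨V, ⟨e ≪≫ (MorphismProperty.Over.isoMk (IsOpenImmersion.isoOfRangeEq (T.ι ≫ i) D.ι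
        ?_) ?_).symm⟩⟩
      · rw [Scheme.Hom.comp_base, TopCat.coe_comp, Set.range_comp]
        refine Eq.trans ?_ (Scheme.Opens.range_ι D).symm
        exact congrArg (i '' ·) (Scheme.Opens.range_ι T)
      · show _ ≫ D.ι ≫ W.hom = T.ι ≫ i ≫ W.hom
        exact (IsOpenImmersion.isoOfRangeEq_hom_fac_assoc _ _ _ _).trans (Category.assoc _ _ _)
    have h₁ := key S₁ hS hS₂
    have h₂ := key S₂ hS.compl (fun h => hS₁.ne_empty (Set.compl_univ_iff.1 h))
    obtain ⟨hc⟩ := nonempty_isColimit_binaryCofanMk_of_isCompl S₁.ι S₂.ι (by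
      rw [Scheme.Opens.opensRange_ι, Scheme.Opens.opensRange_ι]
      refine ⟨disjoint_iff.2 ?_, codisjoint_iff.2 ?_⟩
      · exact Opens.ext (Set.inter_compl_self S)
      · exact Opens.ext (Set.union_compl_self S))
    obtain ⟨V, ⟨e⟩⟩ := AlgClosedExt25.essImage_sum F h₁ h₂
    refine ⟨V, ⟨e ≪≫ MorphismProperty.Over.isoMk ((coprodIsCoprod _ _).coconePointUniqueUpToIso hc) ?_⟩⟩
    apply coprod.hom_ext
    · erw [(coprodIsCoprod S₁.toScheme S₂.toScheme).comp_coconePointUniqueUpToIso_hom_assoc hc ⟨WalkingPair.left⟩]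
      exact (coprod.inl_desc _ _).symm
    · erw [(coprodIsCoprod S₁.toScheme S₂.toScheme).comp_coconePointUniqueUpToIso_hom_assoc hc ⟨WalkingPair.right⟩]
      exact (coprod.inr_desc _ _).symm

end Groth.Agent.Family25
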