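import Groth.Agent.Lib.Family25.Main
import Groth.Agent.Lib.Product25.Main

/-!
# Isomorphism of covers at rational points: general case
-/

open CategoryTheory Limits AlgebraicGeometry TopologicalSpace
open scoped Function

set_option autoImplicit false
set_option linter.style.haveILetI false
set_option backward.isDefEq.respectTransparency false

namespace Groth.Agent.Family25

universe u

/-- Covers isomorphic over every piece of a partition are isomorphic. -/
theorem nonempty_iso_of_partition {X : Scheme.{u}} {J : Type u} (U : J → X.Opens) (hcov : ⨆ j, U j = ⊤)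
    (hdisj : Pairwise (Disjoint on U)) (A B : FEt.Cat X)
    (e : ∀ j, Nonempty ((FEt.restrict (U j).ι).obj A ≅ (FEt.restrict (U j).ι).obj B)) : Nonempty (A ≅ B) := by
  let e' := fun j => (e j).some
  have mk : ∀ (C : FEt.Cat X), Nonempty (IsColimit (Cofan.mk C.left fun j => pullback.fst C.hom (U j).ι)) :=
    fun C => nonempty_isColimit_cofanMk_of _ (top_unique fun x _ => by
      obtain ⟨j, hj⟩ := Opens.mem_iSup.1 (hcov.ge (Set.mem_univ (C.hom x)))
      refine Opens.mem_iSup.2 ⟨j, ?_⟩
      rw [Scheme.Hom.opensRange_pullbackFst, Scheme.Opens.opensRange_ι]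
      exact hj) fun i j hij => by
      rw [Function.onFun, Scheme.Hom.opensRange_pullbackFst, Scheme.Hom.opensRange_pullbackFst,
        Scheme.Opens.opensRange_ι, Scheme.Opens.opensRange_ι]
      exact disjoint_iff_inf_le.2 fun x hx =>
        (disjoint_iff_inf_le.1 (hdisj hij) (show C.hom x ∈ U i ⊓ U j from hx) : False)
  obtain ⟨hA⟩ := mk A
  obtain ⟨hB⟩ := mk B
  let f : A.left ⟶ B.left := Cofan.IsColimit.desc hA fun j => (e' j).hom.left ≫ pullback.fst B.hom (U j).ι
  let g : B.left ⟶ A.left := Cofan.IsColimit.desc hB fun j => (e' j).inv.left ≫ pullback.fst A.hom (U j).ι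
  have hf : ∀ j, pullback.fst A.hom (U j).ι ≫ f = (e' j).hom.left ≫ pullback.fst B.hom (U j).ι := fun j =>
    Cofan.IsColimit.fac hA _ j
  have hg : ∀ j, pullback.fst B.hom (U j).ι ≫ g = (e' j).inv.left ≫ pullback.fst A.hom (U j).ι := fun j =>
    Cofan.IsColimit.fac hB _ j
  have hfg : f ≫ g = 𝟙 _ := Cofan.IsColimit.hom_ext hA _ _ fun j => by
    show pullback.fst A.hom (U j).ι ≫ f ≫ g = pullback.fst A.hom (U j).ι ≫ 𝟙 _
    rw [reassoc_of% (hf j), hg j, ← Category.assoc,
      show (e' j).hom.left ≫ (e' j).inv.left = 𝟙 _ from congrArg (fun q => q.left) (e' j).hom_inv_id]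
    exact (Category.id_comp _).trans (Category.comp_id _).symm
  have hgf : g ≫ f = 𝟙 _ := Cofan.IsColimit.hom_ext hB _ _ fun j => by
    show pullback.fst B.hom (U j).ι ≫ g ≫ f = pullback.fst B.hom (U j).ι ≫ 𝟙 _
    rw [reassoc_of% (hg j), hf j, ← Category.assoc,
      show (e' j).inv.left ≫ (e' j).hom.left = 𝟙 _ from congrArg (fun q => q.left) (e' j).inv_hom_id]
    exact (Category.id_comp _).trans (Category.comp_id _).symm
  refine ⟨MorphismProperty.Over.isoMk ⟨f, g, hfg, hgf⟩ (Cofan.IsColimit.hom_ext hA _ _ fun j => ?_)⟩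
  show pullback.fst A.hom (U j).ι ≫ f ≫ B.hom = pullback.fst A.hom (U j).ι ≫ A.hom
  rw [reassoc_of% (hf j), pullback.condition, pullback.condition, ← Category.assoc]
  exact congrArg (· ≫ (U j).ι) (MorphismProperty.Over.w (e' j).hom)

/-- A family of covers parametrised by a connected scheme is constant at rational points. -/
theorem nonempty_iso_of_proper {k : Type u} [Field k] [IsAlgClosed k] {X Y : Scheme.{u}}
    (pX : X ⟶ Spec (CommRingCat.of k)) (pY : Y ⟶ Spec (CommRingCat.of k))
    [IsLocallyNoetherian X] [IsLocallyNoetherian Y] [ConnectedSpace Y] (hprop : IsProper pX ∨ IsProper pY)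
    (Z : FEt.Cat (pullback pX pY))
    (y y' : Spec (CommRingCat.of k) ⟶ Y) (hy : 𝟙 X ≫ pX = (pX ≫ y) ≫ pY) (hy' : 𝟙 X ≫ pX = (pX ≫ y') ≫ pY) :
    Nonempty ((FEt.restrict (pullback.lift (𝟙 X) (pX ≫ y) hy)).obj Z ≅
      (FEt.restrict (pullback.lift (𝟙 X) (pX ≫ y') hy')).obj Z) := by
  haveI := SectionCompOpen4.locallyConnectedSpace X
  let U : _root_.ConnectedComponents X → X.Opens := fun c =>
    ⟨_root_.ConnectedComponents.mk ⁻¹' {c}, by
      obtain ⟨x, rfl⟩ := _root_.ConnectedComponents.surjective_coe c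
      rw [connectedComponents_preimage_singleton]
      exact isOpen_connectedComponent⟩
  refine nonempty_iso_of_partition U (top_unique fun x _ => Opens.mem_iSup.2 ⟨_root_.ConnectedComponents.mk x, rfl⟩)
    (fun i j hij => disjoint_iff_inf_le.2 fun x hx => hij (hx.1.symm.trans hx.2)) _ _ fun c => ?_
  obtain ⟨x, rfl⟩ := _root_.ConnectedComponents.surjective_coe c
  let ι := (U (_root_.ConnectedComponents.mk x)).ι
  have hU : (U (_root_.ConnectedComponents.mk x) : Set X) = connectedComponent x := connectedComponents_preimage_singleton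
  haveI : IsClosedImmersion ι := IsClosedImmersion.of_isPreimmersion _ (by
    rw [Scheme.Opens.range_ι, hU]; exact isClosed_connectedComponent)
  let X₀ := (U (_root_.ConnectedComponents.mk x)).toScheme
  haveI : ConnectedSpace X₀ := isConnected_iff_connectedSpace.1 (hU ▸ isConnected_connectedComponent :
    _root_.IsConnected (U (_root_.ConnectedComponents.mk x) : Set X))
  haveI : IsLocallyNoetherian X₀ := LocallyOfFiniteType.isLocallyNoetherian ι
  let r : pullback (ι ≫ pX) pY ⟶ pullback pX pY :=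
    pullback.map (ι ≫ pX) pY pX pY ι (𝟙 _) (𝟙 _) (by simp) (by simp)
  have hl : ∀ (y : Spec (CommRingCat.of k) ⟶ Y), 𝟙 X ≫ pX = (pX ≫ y) ≫ pY →
      𝟙 X₀ ≫ ι ≫ pX = ((ι ≫ pX) ≫ y) ≫ pY := fun y hy => by
    rw [Category.id_comp, Category.assoc, Category.assoc, ← Category.assoc pX y pY, ← hy, Category.id_comp]
  have hsq : ∀ (y : Spec (CommRingCat.of k) ⟶ Y) (hy : 𝟙 X ≫ pX = (pX ≫ y) ≫ pY),
      ι ≫ pullback.lift (𝟙 X) (pX ≫ y) hy = pullback.lift (𝟙 X₀) ((ι ≫ pX) ≫ y) (hl y hy) ≫ r := fun y hy => by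
    apply pullback.hom_ext <;> simp [r]
    exact (Category.id_comp ι).symm
  haveI : IsLocallyNoetherian (pullback (ι ≫ pX) pY) := by
    rcases hprop with h | h
    · exact LocallyOfFiniteType.isLocallyNoetherian (pullback.snd (ι ≫ pX) pY)
    · exact LocallyOfFiniteType.isLocallyNoetherian (pullback.fst (ι ≫ pX) pY)
  obtain ⟨e⟩ := nonempty_iso (ι ≫ pX) pY (fun W hW => by
      rcases hprop with h | h
      · haveI : IsProper (ι ≫ pX) := inferInstance
        exact Product25.exists_product_dominates (ι ≫ pX) pY W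
      · let σ := pullbackSymmetry pY (ι ≫ pX)
        let w : W.left ⟶ pullback (ι ≫ pX) pY := W.hom
        let W' := (FEt.restrict σ.hom).obj W
        haveI : ConnectedSpace W'.left :=
          (asIso (pullback.fst w σ.hom)).inv.surjective.connectedSpace (asIso (pullback.fst w σ.hom)).inv.continuous
        obtain ⟨Y', X', φ, h1, h2⟩ := Product25.exists_product_dominates pY (ι ≫ pX) W'
        haveI := h2
        let φ' : pullback (Y'.hom ≫ pY) (X'.hom ≫ ι ≫ pX) ⟶ pullback w σ.hom := φ
        refine ⟨X', Y', (pullbackSymmetry _ _).hom ≫ φ' ≫ pullback.fst w σ.hom, ?_, inferInstance⟩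
        have h1' : φ' ≫ pullback.snd w σ.hom = _ := h1
        simp only [Category.assoc, show W.hom = w from rfl, pullback.condition]
        rw [reassoc_of% h1']
        apply pullback.hom_ext <;> simp [σ])
    ((FEt.restrict r).obj Z) y y' (hl y hy) (hl y' hy')
  exact ⟨AlgClosedExt25.restrictSquare ι _ _ r (hsq y hy) Z ≪≫ e ≪≫
    (AlgClosedExt25.restrictSquare ι _ _ r (hsq y' hy') Z).symm⟩

end Groth.Agent.Family25
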