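import Groth.Agent.Lib.Family25.Basic
import Groth.Agent.Lib.FEtLimit25.EssImage

/-!
# A cover of a product gives isomorphic covers at all rational points of the second factor
-/

open CategoryTheory Limits AlgebraicGeometry TopologicalSpace

set_option autoImplicit false
set_option linter.style.haveILetI false
set_option backward.isDefEq.respectTransparency false

namespace Groth.Agent.Family25

universe u

variable {k : Type u} [Field k] [IsAlgClosed k] {X Y : Scheme.{u}}
  (pX : X ⟶ Spec (CommRingCat.of k)) (pY : Y ⟶ Spec (CommRingCat.of k))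
  [IsLocallyNoetherian X] [IsLocallyNoetherian Y] [ConnectedSpace X] [ConnectedSpace Y]

/-- Products of connected schemes over an algebraically closed field are connected. -/
theorem connectedSpace_product : ConnectedSpace ↥(pullback pX pY) := by
  haveI := GeomIrr.geometricallyConnected_of_isSepClosed pY
  haveI : UniversallyOpen pY := inferInstance
  haveI : UniversallyOpen (pullback.fst pX pY) := MorphismProperty.pullback_fst _ _ ‹UniversallyOpen pY›
  exact GeometricallyConnected.connectedSpace (pullback.fst pX pY) (pullback.fst pX pY).isOpenMap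

/-- After a connected cover of the second factor, a cover of the product is constant. -/
theorem exists_constant_after_cover [IsLocallyNoetherian (pullback pX pY)]
    (H : ∀ (W : FEt.Cat (pullback pX pY)), ConnectedSpace W.left →
      ∃ (X' : FEt.Cat X) (Y' : FEt.Cat Y) (φ : pullback (X'.hom ≫ pX) (Y'.hom ≫ pY) ⟶ W.left),
        φ ≫ W.hom = pullback.map (X'.hom ≫ pX) (Y'.hom ≫ pY) pX pY X'.hom Y'.hom (𝟙 _)
          (Category.comp_id _) (Category.comp_id _) ∧ Surjective φ)
    (Z : FEt.Cat (pullback pX pY)) :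
    ∃ (Y'' : FEt.Cat Y) (_ : ConnectedSpace Y''.left) (V : FEt.Cat X),
      Nonempty ((FEt.restrict (pullback.fst pX (Y''.hom ≫ pY))).obj V ≅
        (FEt.restrict (pullback.map pX (Y''.hom ≫ pY) pX pY (𝟙 X) Y''.hom (𝟙 _) (by simp) (by simp))).obj Z) := by
  classical
  haveI := connectedSpace_product pX pY
  let P := pullback pX pY
  let z : Z.left ⟶ P := Z.hom
  haveI : IsFinite z := Z.prop.1
  haveI : Etale z := Z.prop.2
  obtain ⟨Ω, _, _, ξ, -⟩ := FEtEq25.exists_geomPoint (W := P) (Classical.arbitrary P)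
  obtain ⟨Ω', _, _, η, -⟩ := FEtEq25.exists_geomPoint (W := Y) (Classical.arbitrary Y)
  haveI := FEtEq25.finite_fiberObj ξ Z
  have hcomp : ∀ s : FEt.fiberObj ξ Z,
      ∃ (C : FEt.Cat P) (ι : C ⟶ Z) (X' : FEt.Cat X) (Y' : FEt.Cat Y)
        (φ : pullback (X'.hom ≫ pX) (Y'.hom ≫ pY) ⟶ C.left),
        φ ≫ C.hom = pullback.map (X'.hom ≫ pX) (Y'.hom ≫ pY) pX pY X'.hom Y'.hom (𝟙 _)
          (Category.comp_id _) (Category.comp_id _) ∧ Surjective φ ∧
        Set.range ι.left = connectedComponent (s.1 (IsLocalRing.closedPoint Ω)) := fun s => by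
    obtain ⟨C, hC, ι, q', hq', hr⟩ := exists_component ξ Z s
    obtain ⟨X', Y', φ, h1, h2⟩ := H C hC
    exact ⟨C, ι, X', Y', φ, h1, h2, hr⟩
  choose C ι X' Y' φ hφ hφs hιr using hcomp
  haveI := fun s => FEtEq25.finite_fiberObj η (Y' s)
  haveI := Fintype.ofFinite (FEt.fiberObj ξ Z)
  haveI := fun s => Fintype.ofFinite (FEt.fiberObj η (Y' s))
  let L : List (Σ T : FEt.Cat Y, FEt.fiberObj η T) :=
    (Finset.univ : Finset (Σ s : FEt.fiberObj ξ Z, FEt.fiberObj η (Y' s))).toList.map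
      fun (q : Σ s : FEt.fiberObj ξ Z, FEt.fiberObj η (Y' s)) => ⟨Y' q.1, q.2⟩
  obtain ⟨Y'', hY'', p, hp⟩ := exists_dominating η L
  have hdom : ∀ s, ∀ t : FEt.fiberObj η (Y' s), ∃ h : Y'' ⟶ Y' s, (FEt.fiber η).map h p = t := fun s t =>
    hp ⟨Y' s, t⟩ (List.mem_map.2 ⟨⟨s, t⟩, Finset.mem_toList.2 (Finset.mem_univ _), rfl⟩)
  refine ⟨Y'', hY'', ?_⟩
  let y'' : Y''.left ⟶ Y := Y''.hom
  haveI : IsFinite y'' := Y''.prop.1
  haveI : Etale y'' := Y''.prop.2
  haveI : ConnectedSpace Y''.left := hY''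
  haveI : IsLocallyNoetherian Y''.left := LocallyOfFiniteType.isLocallyNoetherian y''
  let P'' := pullback pX (y'' ≫ pY)
  haveI : ConnectedSpace ↥P'' := connectedSpace_product pX (y'' ≫ pY)
  let m : P'' ⟶ P := pullback.map pX (y'' ≫ pY) pX pY (𝟙 X) y'' (𝟙 _) (by simp) (by simp)
  have hm : IsPullback m (pullback.snd pX (y'' ≫ pY)) (pullback.snd pX pY) y'' := by
    refine IsPullback.of_right ?_ (pullback.lift_snd _ _ _) (IsPullback.of_hasPullback pX pY)
    rw [show m ≫ pullback.fst pX pY = pullback.fst pX (y'' ≫ pY) from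
      (pullback.lift_fst _ _ _).trans (Category.comp_id _)]
    exact IsPullback.of_hasPullback pX (y'' ≫ pY)
  haveI : IsFinite m := MorphismProperty.of_isPullback (P := @IsFinite) hm.flip ‹_›
  haveI : Etale m := MorphismProperty.of_isPullback (P := @Etale) hm.flip ‹_›
  haveI : IsLocallyNoetherian P'' := LocallyOfFiniteType.isLocallyNoetherian m
  let Z'' := (FEt.restrict m).obj Z
  let pr := pullback.fst pX (y'' ≫ pY)
  haveI := GeomIrr.geometricallyConnected_of_isSepClosed (y'' ≫ pY)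
  haveI : UniversallyOpen (y'' ≫ pY) := inferInstance
  haveI : GeometricallyConnected pr := inferInstance
  haveI : UniversallyOpen pr := MorphismProperty.pullback_fst _ _ ‹UniversallyOpen (y'' ≫ pY)›
  have hff := AlgClosedExt25.fullyFaithful_of_geometricallyConnected pr
  haveI := FEtEq25.preservesFiniteLimits_restrict pr
  haveI := FEtEq25.preservesFiniteColimits_restrict pr
  obtain ⟨Ω'', _, _, ζ, -⟩ := FEtEq25.exists_geomPoint (W := P'') (Classical.arbitrary P'')
  suffices (FEt.restrict pr).essImage Z'' by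
    obtain ⟨V, hV⟩ := this
    exact ⟨V, hV⟩
  refine essImage_of_components (FEt.restrict pr) ζ Z'' fun D hD hDc => ?_
  let A := FEtEq25.openCover' Z'' D hD
  haveI : ConnectedSpace A.left := hDc
  -- a geometric point of the component
  obtain ⟨K, _, _, a, -⟩ := FEtEq25.exists_geomPoint (W := (D : Scheme.{u})) (Classical.arbitrary _)
  let az : Spec (CommRingCat.of K) ⟶ Z.left := a ≫ D.ι ≫ pullback.fst z m
  let ay : Spec (CommRingCat.of K) ⟶ Y''.left := a ≫ D.ι ≫ pullback.snd z m ≫ pullback.snd pX (y'' ≫ pY)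
  have haz : az ≫ z = (a ≫ D.ι ≫ pullback.snd z m) ≫ m := by
    simp only [az, Category.assoc, pullback.condition]
  -- its component downstairs
  obtain ⟨b, hb, hbz⟩ := ((FEtEq25.isClopen_image z (isClopen_component Z _)).eq_univ
    ((connectedComponent_nonempty (x := az (IsLocalRing.closedPoint K))).image z)).ge
      (Set.mem_univ (ξ (IsLocalRing.closedPoint Ω)))
  obtain ⟨s', hs', hs'b⟩ := FEtEq25.exists_fiber_point ξ z b hbz
  let s : FEt.fiberObj ξ Z := ⟨s', hs'⟩
  have hsc : connectedComponent (s.1 (IsLocalRing.closedPoint Ω)) = connectedComponent (az (IsLocalRing.closedPoint K)) := by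
    show connectedComponent (s' (IsLocalRing.closedPoint Ω)) = _
    rw [hs'b]
    exact (connectedComponent_eq hb).symm
  let c : (C s).left ⟶ P := (C s).hom
  let l : (C s).left ⟶ Z.left := (ι s).left
  have hl : l ≫ z = c := MorphismProperty.Over.w (ι s)
  obtain ⟨a₁, ha₁⟩ : az (IsLocalRing.closedPoint K) ∈ Set.range l := by
    rw [hιr s, hsc]; exact mem_connectedComponent
  haveI : IsFinite l := (FEtEq25.prop_left (ι s)).1
  obtain ⟨ac, hac, -⟩ := FEtEq25.exists_fiber_point az l a₁ ha₁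
  let x' : (X' s).left ⟶ X := (X' s).hom
  let y' : (Y' s).left ⟶ Y := (Y' s).hom
  haveI : IsFinite x' := (X' s).prop.1
  haveI : Etale x' := (X' s).prop.2
  haveI : IsFinite y' := (Y' s).prop.1
  haveI : Etale y' := (Y' s).prop.2
  let M := pullback.map (x' ≫ pX) (y' ≫ pY) pX pY x' y' (𝟙 _) (Category.comp_id _) (Category.comp_id _)
  haveI : IsFinite M := MorphismProperty.pullbackMap (P := @IsFinite) ‹IsFinite x'› ‹IsFinite y'› rfl rfl
  haveI : IsFinite c := (C s).prop.1
  haveI : IsFinite (φ s ≫ c) := (hφ s).symm ▸ ‹IsFinite M›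
  haveI : IsFinite (φ s) := IsFinite.of_comp (φ s) c
  obtain ⟨c₁, hc₁⟩ := (hφs s).surj (ac (IsLocalRing.closedPoint K))
  obtain ⟨cc, hcc, -⟩ := FEtEq25.exists_fiber_point ac (φ s) c₁ hc₁
  have hccy : (cc ≫ pullback.snd _ _) ≫ y' = ay ≫ y'' := by
    have h1 : cc ≫ M ≫ pullback.snd pX pY = az ≫ z ≫ pullback.snd pX pY := by
      rw [← hac, ← hcc]
      simp only [Category.assoc, reassoc_of% hl, M]
      rw [show φ s ≫ c ≫ pullback.snd pX pY = (φ s ≫ c) ≫ pullback.snd pX pY from (Category.assoc _ _ _).symm,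
        show φ s ≫ c = M from hφ s]
    simp only [M, pullback.lift_snd] at h1
    rw [Category.assoc]
    refine h1.trans ?_
    rw [← Category.assoc, haz]
    simp only [ay, Category.assoc, m, pullback.lift_snd]
  obtain ⟨h, hh⟩ := exists_hom_through η Y'' (Y' s) p (hdom s) ay (cc ≫ pullback.snd _ _) hccy
  have hhw : h.left ≫ y' = y'' := MorphismProperty.Over.w h
  -- the connected component of the first factor through the point
  haveI : IsLocallyNoetherian (X' s).left := LocallyOfFiniteType.isLocallyNoetherian x'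
  let cx : Spec (CommRingCat.of K) ⟶ (X' s).left := cc ≫ pullback.fst _ _
  let ξX : Spec (CommRingCat.of K) ⟶ X := cx ≫ x'
  obtain ⟨X₀, hX₀, j, q', hq', -⟩ := exists_component ξX (X' s) ⟨cx, rfl⟩
  have hjw : j.left ≫ x' = X₀.hom := MorphismProperty.Over.w j
  let x₀ : X₀.left ⟶ X := X₀.hom
  haveI : IsFinite x₀ := X₀.prop.1
  haveI : IsLocallyNoetherian X₀.left := LocallyOfFiniteType.isLocallyNoetherian x₀
  haveI : ConnectedSpace ↥(pullback (x₀ ≫ pX) (y'' ≫ pY)) := connectedSpace_product (x₀ ≫ pX) (y'' ≫ pY)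
  let g : pullback (x₀ ≫ pX) (y'' ≫ pY) ⟶ pullback (x' ≫ pX) (y' ≫ pY) :=
    pullback.map _ _ _ _ j.left h.left (𝟙 _) (by simp [x₀, reassoc_of% hjw]) (by simp [reassoc_of% hhw])
  let gp : pullback (x₀ ≫ pX) (y'' ≫ pY) ⟶ P'' :=
    pullback.map _ _ _ _ x₀ (𝟙 _) (𝟙 _) (by simp) (by simp)
  have hg : (g ≫ φ s ≫ l) ≫ z = gp ≫ m := by
    simp only [Category.assoc, hl]
    rw [show φ s ≫ c = M from hφ s]
    apply pullback.hom_ext <;> simp [g, M, gp, m, x₀, hjw, hhw]
  let g'' : pullback (x₀ ≫ pX) (y'' ≫ pY) ⟶ pullback z m := pullback.lift _ _ hg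
  let q₀ : Spec (CommRingCat.of K) ⟶ pullback (x₀ ≫ pX) (y'' ≫ pY) := pullback.lift q'.1 ay (by
    rw [← Category.assoc, show q'.1 ≫ x₀ = ξX from q'.2, ← reassoc_of% hccy]
    simp only [ξX, cx, Category.assoc]
    rw [pullback.condition])
  have hq₀ : q₀ ≫ g'' = a ≫ D.ι := by
    have hq : q'.1 ≫ j.left = cx := congrArg Subtype.val hq'
    have h1 : q₀ ≫ g = cc := by
      apply pullback.hom_ext
      · simp only [q₀, g, Category.assoc, pullback.lift_fst, pullback.lift_fst_assoc, hq, cx]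
        rfl
      · simp only [q₀, g, Category.assoc, pullback.lift_snd, pullback.lift_snd_assoc]
        exact hh
    apply pullback.hom_ext
    · simp only [g'', Category.assoc, pullback.lift_fst, reassoc_of% h1]
      rw [reassoc_of% hcc]
      exact hac
    · simp only [g'', Category.assoc, pullback.lift_snd]
      apply pullback.hom_ext
      · simp only [gp, q₀, Category.assoc, pullback.lift_fst, pullback.lift_fst_assoc]
        have h2 := congrArg (· ≫ pullback.fst pX pY) haz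
        simp only [Category.assoc, m, pullback.lift_fst, Category.comp_id] at h2
        rw [show q'.1 ≫ x₀ = ξX from q'.2, ← h2, ← hac, ← hcc]
        simp only [ξX, cx, Category.assoc, reassoc_of% hl]
        rw [show φ s ≫ c ≫ pullback.fst pX pY = (φ s ≫ c) ≫ pullback.fst pX pY from (Category.assoc _ _ _).symm,
          show φ s ≫ c = M from hφ s]
        simp [M]
        rfl
      · simp only [gp, q₀, Category.assoc, pullback.lift_snd, pullback.lift_snd_assoc, Category.comp_id, ay]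
  have hrange : Set.range g'' ⊆ Set.range D.ι := by
    rw [Scheme.Opens.range_ι]
    have hmem : g'' (q₀ (IsLocalRing.closedPoint K)) ∈ (D : Set ↥Z''.left) := by
      rw [← Scheme.Hom.comp_apply, hq₀]
      exact (a (IsLocalRing.closedPoint K)).2
    exact ((isConnected_range g''.continuous).isPreconnected.subset_isClopen (s := Set.range g'') (t := (D : Set ↥Z''.left)) ⟨hD, D.2⟩
      ⟨_, ⟨_, rfl⟩, hmem⟩)
  let gA := IsOpenImmersion.lift D.ι g'' hrange
  let r : pullback x₀ pr ⟶ pullback (x₀ ≫ pX) (y'' ≫ pY) := pullback.lift (pullback.fst _ _)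
    (pullback.snd _ _ ≫ pullback.snd pX (y'' ≫ pY)) (by
      simp only [Category.assoc, pr]
      rw [pullback.condition_assoc, pullback.condition])
  have hr : (r ≫ gA) ≫ D.ι ≫ pullback.snd z m = pullback.snd x₀ pr := by
    simp only [gA, Category.assoc, IsOpenImmersion.lift_fac_assoc, g'', pullback.lift_snd]
    apply pullback.hom_ext
    · simp [r, gp, pr, pullback.condition]
    · simp [r, gp]
  let mA : (FEt.restrict pr).obj X₀ ⟶ A := MorphismProperty.Over.homMk (r ≫ gA) hr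
  -- Galois categories
  obtain ⟨K₀, _, _, x, -⟩ := FEtEq25.exists_geomPoint (W := X) (Classical.arbitrary X)
  haveI : GaloisCategory (FEt.Cat X) := { hasFiberFunctor := ⟨FEtEq25.fiberFin x, ⟨FEtEq25.fiberFunctor x⟩⟩ }
  haveI := FEtEq25.fiberFunctor ζ
  haveI : GaloisCategory (FEt.Cat P'') := { hasFiberFunctor := ⟨FEtEq25.fiberFin ζ, ⟨FEtEq25.fiberFunctor ζ⟩⟩ }
  haveI := FEtLimit25.isConnected_of_connectedSpace A
  haveI : Etale x₀ := X₀.prop.2
  haveI : Nonempty X₀.left := ⟨Classical.arbitrary _⟩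
  haveI : Surjective x₀ := by
    refine ⟨fun b => ?_⟩
    obtain ⟨a, -, ha⟩ := ((FEtEq25.isClopen_image x₀ isClopen_univ).eq_univ
      (Set.univ_nonempty.image (x₀ : X₀.left → X))).ge (Set.mem_univ b)
    exact ⟨a, ha⟩
  let sx : pullback x₀ pr ⟶ P'' := pullback.snd x₀ pr
  haveI : IsFinite sx := MorphismProperty.pullback_snd _ _ ‹IsFinite x₀›
  haveI : Surjective sx := MorphismProperty.pullback_snd _ _ ‹Surjective x₀›
  obtain ⟨b', hb'⟩ := sx.surjective (ζ (IsLocalRing.closedPoint Ω''))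
  obtain ⟨v, hv, -⟩ := FEtEq25.exists_fiber_point ζ sx b' hb'
  exact FEtLimit25.mem_essImage_of_dominated (FEt.restrict pr) hff (FEtEq25.fiberFin ζ) mA ⟨v, hv⟩

/-- Covers at two rational points are isomorphic. -/
theorem nonempty_iso [IsLocallyNoetherian (pullback pX pY)]
    (H : ∀ (W : FEt.Cat (pullback pX pY)), ConnectedSpace W.left →
      ∃ (X' : FEt.Cat X) (Y' : FEt.Cat Y) (φ : pullback (X'.hom ≫ pX) (Y'.hom ≫ pY) ⟶ W.left),
        φ ≫ W.hom = pullback.map (X'.hom ≫ pX) (Y'.hom ≫ pY) pX pY X'.hom Y'.hom (𝟙 _)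
          (Category.comp_id _) (Category.comp_id _) ∧ Surjective φ)
    (Z : FEt.Cat (pullback pX pY))
    (y y' : Spec (CommRingCat.of k) ⟶ Y) (hy : 𝟙 X ≫ pX = (pX ≫ y) ≫ pY) (hy' : 𝟙 X ≫ pX = (pX ≫ y') ≫ pY) :
    Nonempty ((FEt.restrict (pullback.lift (𝟙 X) (pX ≫ y) hy)).obj Z ≅
      (FEt.restrict (pullback.lift (𝟙 X) (pX ≫ y') hy')).obj Z) := by
  obtain ⟨Y'', hY'', V, ⟨e⟩⟩ := exists_constant_after_cover pX pY H Z
  let y'' : Y''.left ⟶ Y := Y''.hom
  haveI : IsFinite y'' := Y''.prop.1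
  haveI : Etale y'' := Y''.prop.2
  haveI : ConnectedSpace Y''.left := hY''
  haveI : Surjective y'' := by
    refine ⟨fun b => ?_⟩
    obtain ⟨a, -, ha⟩ := ((FEtEq25.isClopen_image y'' isClopen_univ).eq_univ
      (Set.univ_nonempty.image (y'' : Y''.left → Y))).ge (Set.mem_univ b)
    exact ⟨a, ha⟩
  suffices ∀ (y : Spec (CommRingCat.of k) ⟶ Y) (hy : 𝟙 X ≫ pX = (pX ≫ y) ≫ pY),
      Nonempty ((FEt.restrict (pullback.lift (𝟙 X) (pX ≫ y) hy)).obj Z ≅ (FEt.restrict (𝟙 X)).obj V) by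
    obtain ⟨a⟩ := this y hy
    obtain ⟨b⟩ := this y' hy'
    exact ⟨a ≪≫ b.symm⟩
  intro y hy
  obtain ⟨a, ha⟩ := y''.surjective (y (IsLocalRing.closedPoint k))
  obtain ⟨yt, hyt, -⟩ := FEtEq25.exists_fiber_point y y'' a ha
  have hj : 𝟙 X ≫ pX = (pX ≫ yt) ≫ y'' ≫ pY := by
    rw [Category.assoc, reassoc_of% hyt]
    exact hy.trans (Category.assoc _ _ _)
  let j : X ⟶ pullback pX (y'' ≫ pY) := pullback.lift _ _ hj
  let m := pullback.map pX (y'' ≫ pY) pX pY (𝟙 X) y'' (𝟙 _) (by simp) (by simp)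
  have h1 : 𝟙 X ≫ pullback.lift (𝟙 X) (pX ≫ y) hy = j ≫ m := by
    apply pullback.hom_ext
    · simp [j, m]
    · simp only [j, m, Category.assoc, pullback.lift_snd, Category.id_comp, pullback.lift_snd_assoc, hyt]
  have h2 : j ≫ pullback.fst pX (y'' ≫ pY) = 𝟙 X ≫ 𝟙 X := by simp [j]
  let Zy := (FEt.restrict (pullback.lift (𝟙 X) (pX ≫ y) hy)).obj Z
  let zy : Zy.left ⟶ X := Zy.hom
  let Vy := (FEt.restrict (𝟙 X)).obj V
  let vy : Vy.left ⟶ X := Vy.hom
  exact ⟨(MorphismProperty.Over.isoMk (asIso (pullback.fst zy (𝟙 X)))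
      (pullback.condition.trans (Category.comp_id _)) : (FEt.restrict (𝟙 X)).obj Zy ≅ Zy).symm ≪≫
    AlgClosedExt25.restrictSquare (𝟙 X) (pullback.lift (𝟙 X) (pX ≫ y) hy) j m h1 Z ≪≫
    (FEt.restrict j).mapIso e.symm ≪≫
    AlgClosedExt25.restrictSquare j (pullback.fst pX (y'' ≫ pY)) (𝟙 X) (𝟙 X) h2 V ≪≫
    (MorphismProperty.Over.isoMk (asIso (pullback.fst vy (𝟙 X)))
      (pullback.condition.trans (Category.comp_id _)) : (FEt.restrict (𝟙 X)).obj Vy ≅ Vy)⟩

end Groth.Agent.Family25
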